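import Groth.Agent.SiteBase.KInjSections
import Groth.Agent.SiteBase.KInjAdj
import Groth.Agent.SiteBase.Top
import Groth.Agent.TriCat.KInjRes
import Groth.Agent.BigSiteLib.FppfDesc.LocExact
import Mathlib.Algebra.Homology.Factorizations.CM5a

/-!
# Complexes of sheaves whose sections have no negative cohomology on a basis
-/

set_option autoImplicit false
set_option linter.style.haveILetI false

universe u

open CategoryTheory CategoryTheory.Limits Opposite TopologicalSpace

namespace Groth.Agent.TopDesc98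

section KInj

variable {A : Type (u + 1)} [Category.{u} A] [Abelian A] {B : Type (u + 1)} [Category.{u} B] [Abelian B]

/-- A quasi-isomorphism of K-injective complexes stays one under additive functors. -/
theorem quasiIso_map_of_isKInjective {I L : CochainComplex A ℤ} [I.IsKInjective] [L.IsKInjective]
    (φ : I ⟶ L) [QuasiIso φ] (F : A ⥤ B) [F.Additive] :
    QuasiIso ((F.mapHomologicalComplex (ComplexShape.up ℤ)).map φ) := by
  let := HasDerivedCategory.standard A
  let q := HomotopyCategory.quotient A (ComplexShape.up ℤ)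
  haveI : IsIso (DerivedCategory.Q.map φ) := by
    rw [DerivedCategory.isIso_Q_map_iff_quasiIso]
    infer_instance
  haveI hQ : IsIso (DerivedCategory.Qh.map (q.map φ)) :=
    (NatIso.isIso_map_iff (DerivedCategory.quotientCompQhIso A) φ).2 inferInstance
  obtain ⟨g, hg⟩ := (CochainComplex.IsKInjective.Qh_map_bijective (q.obj L) I).2
    (inv (DerivedCategory.Qh.map (q.map φ)))
  have h₁ : q.map φ ≫ g = 𝟙 _ := (CochainComplex.IsKInjective.Qh_map_bijective (q.obj I) I).1
    (by rw [Functor.map_comp, hg, IsIso.hom_inv_id, CategoryTheory.Functor.map_id])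
  have h₂ : g ≫ q.map φ = 𝟙 _ := (CochainComplex.IsKInjective.Qh_map_bijective (q.obj L) L).1
    (by rw [Functor.map_comp, hg, IsIso.inv_hom_id, CategoryTheory.Functor.map_id])
  obtain ⟨ψ, rfl⟩ := q.map_surjective g
  let e : HomotopyEquiv I L :=
    { hom := φ
      inv := ψ
      homotopyHomInvId := HomotopyCategory.homotopyOfEq _ _
        (by rw [Functor.map_comp, h₁, CategoryTheory.Functor.map_id])
      homotopyInvHomId := HomotopyCategory.homotopyOfEq _ _
        (by rw [Functor.map_comp, h₂, CategoryTheory.Functor.map_id]) }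
  exact inferInstanceAs (QuasiIso (F.mapHomotopyEquiv e).hom)

end KInj

variable {Y : TopCat.{u}} (M : CochainComplex (CohTop.Ab Y) ℤ)

theorem exactAt_of_basis (B : Set (Opens Y)) (hB : Opens.IsBasis B) (n : ℤ)
    (h : ∀ U ∈ B, IsZero (((KInjSections.preCx M).homology n).obj (op U))) : M.ExactAt n := by
  rw [M.exactAt_iff' (n - 1) n (n + 1) (by simp) (by simp)]
  refine BigSiteLib.FppfDesc.exact_of_locally_boundary fun U s hs x hx => ?_
  obtain ⟨V, hVB, hxV, hVU⟩ := Opens.isBasis_iff_nbhd.1 hB hx
  let P := KInjSections.preCx M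
  have he : (P.sc' (n - 1) n (n + 1)).map ((evaluation _ AddCommGrpCat.{u}).obj (op V)) |>.Exact := by
    rw [ShortComplex.exact_iff_isZero_homology]
    refine IsZero.of_iso (h V hVB) ((P.sc' (n - 1) n (n + 1)).mapHomologyIso _ ≪≫ ?_)
    exact ((evaluation _ AddCommGrpCat.{u}).obj (op V)).mapIso
      (P.homologyIsoSc' (n - 1) n (n + 1) (by simp) (by simp)).symm
  obtain ⟨t, ht⟩ := (ShortComplex.ab_exact_iff _).1 he ((M.X n).obj.map (homOfLE hVU).op s) (by
    refine (ConcreteCategory.congr_hom ((M.d n (n + 1)).hom.naturality (homOfLE hVU).op) s).trans ?_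
    exact (congrArg _ hs).trans (map_zero ((M.X (n + 1)).obj.map (homOfLE hVU).op).hom))
  exact ⟨V, homOfLE hVU, ⟨t, ht⟩, hxV⟩

/-- A complex with K-injective sections and no negative cohomology on a basis has none at all, and its
degree zero cohomology is a sheaf. -/
theorem negVan [M.IsKInjective] (B : Set (Opens Y)) (hB : Opens.IsBasis B)
    (h : ∀ U ∈ B, ∀ n : ℤ, n < 0 → IsZero (((KInjSections.preCx M).homology n).obj (op U))) :
    (∀ (U : Opens Y) (n : ℤ), n < 0 → IsZero (((KInjSections.preCx M).homology n).obj (op U))) ∧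
      Presheaf.IsSheaf (Opens.grothendieckTopology Y) ((KInjSections.preCx M).homology 0) := by
  haveI : M.IsGE 0 := (CochainComplex.isGE_iff _ _).2 fun n hn =>
    exactAt_of_basis M B hB n fun U hU => h U hU n hn
  haveI : QuasiIso (M.πTruncGE 0) := (M.quasiIso_πTruncGE_iff 0).2 inferInstance
  obtain ⟨L, i, _, _, _⟩ := CochainComplex.Plus.modelCategoryQuillen.exists_quasiIso_injective (M.truncGE 0) 0
  haveI : L.IsKInjective := CochainComplex.isKInjective_of_injective L 0
  let Φ := sheafToPresheaf (Opens.grothendieckTopology Y) AddCommGrpCat.{u}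
  let P := KInjSections.preCx L
  haveI : QuasiIso ((Φ.mapHomologicalComplex (ComplexShape.up ℤ)).map (M.πTruncGE 0 ≫ i)) :=
    quasiIso_map_of_isKInjective _ Φ
  let e : ∀ n, (KInjSections.preCx M).homology n ≅ P.homology n := fun n =>
    isoOfQuasiIsoAt ((Φ.mapHomologicalComplex (ComplexShape.up ℤ)).map (M.πTruncGE 0 ≫ i)) n
  have hz : ∀ n : ℤ, n < 0 → IsZero (P.X n) := fun n hn => Φ.map_isZero (L.isZero_of_isStrictlyGE 0 n hn)
  refine ⟨fun U n hn => ?_, ?_⟩
  · refine ((evaluation _ AddCommGrpCat.{u}).obj (op U)).map_isZero ?_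
    exact IsZero.of_iso ((HomologicalComplex.exactAt_iff_isZero_homology _ _).1
      (HomologicalComplex.ExactAt.of_isZero (hz n hn))) (e n)
  · let e₀ : P.cycles 0 ≅ P.homology 0 :=
      P.isoHomologyπ (-1) 0 (by simp) ((hz (-1) (by omega)).eq_of_src _ _)
    let e₁ : P.cycles 0 ≅ (L.cycles 0).obj :=
      (P.cyclesIsKernel 0 1 (by simp)).conePointUniqueUpToIso
        (KernelFork.mapIsLimit _ (L.cyclesIsKernel 0 1 (by simp)) Φ)
    exact Presheaf.isSheaf_of_iso_iff (e₁.symm ≪≫ e₀ ≪≫ (e 0).symm) |>.1 (L.cycles 0).property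

end Groth.Agent.TopDesc98
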